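import Cfsg.Agent.H604.FD.Inner
import Cfsg.Agent.H604.Acd
import Cfsg.Agent.H658.CyclicRoot
import Cfsg.Agent.Blocks.ExtendedFMT
import Cfsg.Agent.Blocks.ExistsModular
import Cfsg.Agent.Blocks.PrincipalSection
import Cfsg.Agent.S0919
import Cfsg.Agent.S0936
import Cfsg.Agent.S4652
import Cfsg.Agent.S4696
import Cfsg.Agent.FastGrp
import Cfsg.Agent.Prune
set_option linter.all false
prune_inst 0x7f00000000000000000000000000000000000000000000000000000000000000000000000000000000000000000000000000000000000000000000000000000000000000000000000000000000000000003fffffffffffffffffffffffffffbeffbdffffffff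
open scoped Cfsg.Agent.FastGrp

/-!
# The degree equation of the principal block (helper604, for S4898)

`G` perfect, `P` a Sylow `p`-subgroup of order `p`, `e = |N(P) : C(P)|`, `1 < e < p - 1`: `Degs G p e`.
-/

set_option autoImplicit false

namespace Cfsg.Agent.H604.FD.Degs

open Subgroup Cfsg Cfsg.Agent.H604.FD.Inner Cfsg.Agent.Characters.Core

universe u

variable {G : Type u} [Group G] [Finite G] {p : ℕ} [hp : Fact p.Prime]

theorem eq_one_of_degree (hG : commutator G = ⊤) {χ : IrrCharacter G} (h : charDegree (χ : G → ℂ) = 1) :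
    χ = ⟨1, isIrr_one⟩ := by
  classical
  have hfin : Finite (IrrCharacter G) := finite_irr
  have := Fintype.ofFinite (IrrCharacter G)
  have h1 := H604.Acd.card_linear (G := G)
  rw [hG, index_top, Finset.card_eq_one] at h1
  obtain ⟨ψ, hψ⟩ := h1
  have h2 : χ ∈ ({ψ} : Finset (IrrCharacter G)) := by rw [← hψ]; exact Finset.mem_filter.2 ⟨Finset.mem_univ _, h⟩
  have h3 : (⟨1, isIrr_one⟩ : IrrCharacter G) ∈ ({ψ} : Finset (IrrCharacter G)) := by
    rw [← hψ]
    exact Finset.mem_filter.2 ⟨Finset.mem_univ _, Blocks.Basic.charDegree_of_eq (by simp)⟩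
  rw [Finset.mem_singleton] at h2 h3
  rw [h2, h3]

/-- The principal block in the situation of S4696. -/
theorem block (P : Sylow p G) (hP : Nat.card P = p) {e : ℕ}
    (he : (centralizer ((P : Subgroup G) : Set G)).relIndex (normalizer ((P : Subgroup G) : Set G)) = e) :
    ∃ (M : Ideal AlgInt) (X Y : Set (IrrCharacter G)), IsPModular p M ∧ principalBlock M G = X ∪ Y ∧ Disjoint X Y ∧
      Nat.card X = e ∧ Nat.card Y = (p - 1) / e ∧
      (∀ ψ ∈ Y, ∀ ψ' ∈ Y, ∀ g : G, ¬ p ∣ orderOf g → (ψ : G → ℂ) g = (ψ' : G → ℂ) g) ∧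
      ∃ (δ : IrrCharacter G → ℤ) (δ₀ : ℤ), (∀ χ ∈ X, δ χ = 1 ∨ δ χ = -1) ∧ (δ₀ = 1 ∨ δ₀ = -1) ∧
      (∀ ψ ∈ Y, ∀ g : G, ¬ p ∣ orderOf g → (δ₀ : ℂ) * (ψ : G → ℂ) g + ∑ᶠ χ ∈ X, (δ χ : ℂ) * (χ : G → ℂ) g = 0) ∧
      (∀ χ ∈ X, ∀ χ' ∈ X, δ χ * (charDegree (χ : G → ℂ) : ℤ) ≡ δ χ' * (charDegree (χ' : G → ℂ) : ℤ) [ZMOD (p : ℤ)]) ∧
      (∀ ψ ∈ Y, ∀ χ ∈ X, (charDegree (ψ : G → ℂ) : ℤ) ≡ -((e : ℤ) * δ₀ * δ χ * (charDegree (χ : G → ℂ) : ℤ)) [ZMOD (p : ℤ)]) := by
  classical
  have := Fintype.ofFinite G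
  obtain ⟨M, hM⟩ := Cfsg.Agent.Blocks.ExistsModular.exists_isPModular hp.out
  have hMp := Blocks.Local.isPrime_of_isPModular hM
  have hcyc : IsCyclic (P : Subgroup G) := isCyclic_of_prime_card hP
  have hcomm : ∀ x ∈ (P : Subgroup G), ∀ y ∈ (P : Subgroup G), x * y = y * x := by
    intro x hx y hy
    have := (IsCyclic.commGroup (α := (P : Subgroup G))).mul_comm ⟨x, hx⟩ ⟨y, hy⟩
    exact congrArg Subtype.val this
  have hPC : (P : Subgroup G) ≤ centralizer ((P : Subgroup G) : Set G) := fun x hx =>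
    mem_centralizer_iff.2 fun y hy => hcomm y hy x hx
  have hB : IsPBlock M (principalBlock M G) := Blocks.PrincipalSection.isPBlock_principalBlock
  have hBD : IsDefectGroup p M (principalBlock M G) (P : Subgroup G) := (S4652.result p M hM _).2 ⟨P, rfl⟩
  set C := centralizer ((P : Subgroup G) : Set G) with hC
  have hb : IsPBlock M (principalBlock M C) := Blocks.PrincipalSection.isPBlock_principalBlock
  have hdef : InducedBlockDefined M C (principalBlock M C) :=
    S0919.result p M hM (P : Subgroup G) C P.2 hPC le_rfl (centralizer_le_normalizer _) _ hb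
  have hind : IsInducedBlock M C (principalBlock M C) (principalBlock M G) := (S0936.result p M hM C _ hdef).2 rfl
  have hT : ∀ g : G, g ∈ normalizer ((P : Subgroup G) : Set G) ↔ (g ∈ normalizer ((P : Subgroup G) : Set G) ∧
      ∀ θ ∈ principalBlock M C, ∀ θ' : IrrCharacter C,
        (∀ h h' : C, (h' : G) = g * h * g⁻¹ → (θ' : C → ℂ) h' = (θ : C → ℂ) h) → θ' ∈ principalBlock M C) := by
    intro g
    refine ⟨fun hg => ⟨hg, fun θ hθ θ' h => ?_⟩, fun h => h.1⟩
    have hgC : ∀ x : G, x ∈ C ↔ g * x * g⁻¹ ∈ C := by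
      intro x
      rw [mem_centralizer_iff, mem_centralizer_iff]
      constructor
      · intro hx y hy
        have h1 : g⁻¹ * y * g ∈ (P : Subgroup G) := by
          rw [← inv_mem_iff] at hg
          simpa using (mem_normalizer_iff.1 hg y).1 hy
        have h2 := hx _ h1
        calc y * (g * x * g⁻¹) = g * (g⁻¹ * y * g * x) * g⁻¹ := by group
          _ = g * (x * (g⁻¹ * y * g)) * g⁻¹ := by rw [h2]
          _ = g * x * g⁻¹ * y := by group
      · intro hx y hy
        have h1 : g * y * g⁻¹ ∈ (P : Subgroup G) := (mem_normalizer_iff.1 hg y).1 hy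
        have h2 := hx _ h1
        have h3 : g * (y * x) * g⁻¹ = g * (x * y) * g⁻¹ := by
          calc g * (y * x) * g⁻¹ = g * y * g⁻¹ * (g * x * g⁻¹) := by group
            _ = g * x * g⁻¹ * (g * y * g⁻¹) := h2
            _ = _ := by group
        exact mul_left_cancel (mul_right_cancel h3)
    let α : C ≃* C :=
      { toFun := fun x => ⟨g * x * g⁻¹, (hgC x).1 x.2⟩
        invFun := fun x => ⟨g⁻¹ * x * g, by
          rw [hgC]
          have : g * (g⁻¹ * (x : G) * g) * g⁻¹ = x := by group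
          rw [this]; exact x.2⟩
        left_inv := fun x => Subtype.ext (by show g⁻¹ * (g * (x : G) * g⁻¹) * g = x; group)
        right_inv := fun x => Subtype.ext (by show g * (g⁻¹ * (x : G) * g) * g⁻¹ = x; group)
        map_mul' := fun x y => Subtype.ext (by
          show g * ((x : G) * y) * g⁻¹ = g * x * g⁻¹ * (g * y * g⁻¹)
          group) }
    have h1 : Blocks.ExtendedFMT.compIrr α θ' = θ := by
      apply Subtype.ext
      funext x
      exact h x (α x) rfl
    have h2 : θ' = Blocks.ExtendedFMT.compIrr α.symm θ := by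
      rw [← h1, Blocks.ExtendedFMT.compIrr_symm_compIrr]
    have h3 := Blocks.ExtendedFMT.sameBlock_compIrr (M := M) α.symm (θ := ⟨fun _ => 1, isIrr_one⟩) (ψ := θ) hθ
    rw [h2]
    exact h3
  obtain ⟨-, -, X, Y, h1, h2, h3, h4, h5, δ, δ₀, h6, h7, h8, h9, h10⟩ :=
    S4696.result p M hM (P : Subgroup G) hcyc 1 le_rfl (by rw [pow_one]; exact hP) (principalBlock M G) hB hBD
      (principalBlock M C) hind (normalizer ((P : Subgroup G) : Set G)) hT e he
  rw [pow_one] at h4 h9 h10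
  exact ⟨M, X, Y, hM, h1, h2, h3, h4, h5, δ, δ₀, h6, h7, h8, h9, h10⟩

omit [Finite G] in
theorem degree_eq {χ : IrrCharacter G} : (χ : G → ℂ) 1 = (charDegree (χ : G → ℂ) : ℂ) :=
  Blocks.Basic.irr_one_eq_charDegree χ.2

/-- **The degree equation.** -/
theorem degs (P : Sylow p G) (hP : Nat.card P = p) {e : ℕ}
    (he : (centralizer ((P : Subgroup G) : Set G)).relIndex (normalizer ((P : Subgroup G) : Set G)) = e)
    (he1 : 1 < e) (hep : e < p - 1) (hG : commutator G = ⊤) : Degs G p e := by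
  classical
  obtain ⟨M, X, Y, hM, hXY, hdis, hX, hY, hYreg, δ, δ₀, hδ, hδ₀, hrel, hc1, hc2⟩ := block P hP he
  have hMp := Blocks.Local.isPrime_of_isPModular hM
  have hfin : Finite (IrrCharacter G) := finite_irr
  have hp3 : 3 < p := by omega
  have hdvd : e ∣ p - 1 := he ▸ relIndex_dvd hp.out hP
  have h2 : 2 ≤ (p - 1) / e := by
    obtain ⟨k, hk⟩ := hdvd
    rw [hk, Nat.mul_div_cancel_left _ (by omega)]
    by_contra hcon
    have : k = 0 ∨ k = 1 := by omega
    rcases this with rfl | rfl <;> omega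
  have hY0 : Y.Finite := Set.toFinite _
  have hX0 : X.Finite := Set.toFinite _
  have hYn : 1 < Y.ncard := by rw [← Nat.card_coe_set_eq, hY]; omega
  obtain ⟨ψ, hψ, ψ', hψ', hne⟩ := (Set.one_lt_ncard hY0).1 hYn
  -- degrees
  set one : IrrCharacter G := ⟨1, isIrr_one⟩ with hone
  have hone1 : charDegree (one : G → ℂ) = 1 := Blocks.Basic.charDegree_of_eq (by simp [hone])
  have hone_mem : one ∈ principalBlock M G := Blocks.PrincipalSection.one_mem_principalBlock
  have hYdeg : ∀ ψ ∈ Y, ∀ ψ' ∈ Y, charDegree (ψ : G → ℂ) = charDegree (ψ' : G → ℂ) := by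
    intro ψ hψ ψ' hψ'
    have h1 := hYreg ψ hψ ψ' hψ' 1 (by rw [orderOf_one]; exact hp.out.one_lt.ne' ∘ Nat.dvd_one.1)
    rw [degree_eq, degree_eq] at h1
    exact_mod_cast h1
  have honeX : one ∈ X := by
    rw [hXY] at hone_mem
    rcases hone_mem with h | h
    · exact h
    · exfalso
      have h3 := hYdeg one h ψ hψ
      have h4 := hYdeg one h ψ' hψ'
      rw [hone1] at h3 h4
      exact hne ((eq_one_of_degree hG h3.symm).trans (eq_one_of_degree hG h4.symm).symm)
  -- signs relative to the trivial character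
  set σ : IrrCharacter G → ℤ := fun χ => δ one * δ χ with hσ
  set s : ℤ := δ one * δ₀ with hs
  have hδ1 := hδ one honeX
  have hσs : ∀ χ ∈ X, σ χ = 1 ∨ σ χ = -1 := by
    intro χ hχ
    rcases hδ1 with h | h <;> rcases hδ χ hχ with h' | h' <;> simp [hσ, h, h']
  have hss : s = 1 ∨ s = -1 := by
    rcases hδ1 with h | h <;> rcases hδ₀ with h' | h' <;> simp [hs, h, h']
  have hcongr : ∀ χ ∈ X, (p : ℤ) ∣ σ χ * charDegree (χ : G → ℂ) - 1 := by
    intro χ hχ
    have h3 := (hc1 one honeX χ hχ)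
    rw [hone1] at h3
    have h4 := Int.ModEq.dvd h3
    have h5 : σ χ * charDegree (χ : G → ℂ) - 1 = δ one * (δ χ * (charDegree (χ : G → ℂ) : ℤ) - δ one * ((1 : ℕ) : ℤ)) := by
      rw [hσ]
      rcases hδ1 with h | h <;> rw [h] <;> push_cast <;> ring
    rw [h5]
    exact Dvd.dvd.mul_left h4 _
  have hexc : (p : ℤ) ∣ (charDegree (ψ : G → ℂ) : ℤ) + e * s := by
    have h3 := Int.ModEq.dvd (hc2 ψ hψ one honeX).symm
    rw [hone1] at h3
    have h4 : (charDegree (ψ : G → ℂ) : ℤ) - -((e : ℤ) * δ₀ * δ one * ((1 : ℕ) : ℤ)) =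
        (charDegree (ψ : G → ℂ) : ℤ) + e * s := by
      rw [hs]; push_cast; ring
    rwa [h4] at h3
  have hsum : s * (charDegree (ψ : G → ℂ) : ℤ) + ∑ χ ∈ hX0.toFinset, σ χ * (charDegree (χ : G → ℂ) : ℤ) = 0 := by
    have h3 := hrel ψ hψ 1 (by rw [orderOf_one]; exact hp.out.one_lt.ne' ∘ Nat.dvd_one.1)
    rw [finsum_mem_eq_finite_toFinset_sum _ hX0, degree_eq] at h3
    have h4 : (δ₀ : ℂ) * (charDegree (ψ : G → ℂ) : ℂ) + ∑ χ ∈ hX0.toFinset, (δ χ : ℂ) * (charDegree (χ : G → ℂ) : ℂ) = 0 := by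
      rw [← h3]
      congr 1
      exact Finset.sum_congr rfl fun χ _ => by rw [degree_eq]
    have h5 : δ₀ * (charDegree (ψ : G → ℂ) : ℤ) + ∑ χ ∈ hX0.toFinset, δ χ * (charDegree (χ : G → ℂ) : ℤ) = 0 := by
      exact_mod_cast h4
    calc s * (charDegree (ψ : G → ℂ) : ℤ) + ∑ χ ∈ hX0.toFinset, σ χ * (charDegree (χ : G → ℂ) : ℤ)
        = δ one * (δ₀ * (charDegree (ψ : G → ℂ) : ℤ) + ∑ χ ∈ hX0.toFinset, δ χ * (charDegree (χ : G → ℂ) : ℤ)) := by
          rw [mul_add, Finset.mul_sum, hs]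
          congr 1
          · ring
          · exact Finset.sum_congr rfl fun χ _ => by rw [hσ]; ring
      _ = 0 := by rw [h5, mul_zero]
  -- the sign depends on the degree only
  set sg : ℕ → ℤ := fun d => if (p : ℤ) ∣ (d : ℤ) - 1 then 1 else -1 with hsg
  have hsgn : ∀ d, sg d = 1 ∨ sg d = -1 := by
    intro d
    by_cases h : (p : ℤ) ∣ (d : ℤ) - 1
    · left; simp only [hsg]; rw [if_pos h]
    · right; simp only [hsg]; rw [if_neg h]
  have hσsg : ∀ χ ∈ X, σ χ = sg (charDegree (χ : G → ℂ)) := by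
    intro χ hχ
    have h3 := hcongr χ hχ
    by_cases h : (p : ℤ) ∣ (charDegree (χ : G → ℂ) : ℤ) - 1
    · simp only [hsg]
      rw [if_pos h]
      rcases hσs χ hχ with h4 | h4
      · exact h4
      · exfalso
        rw [h4] at h3
        have h5 := dvd_add h h3
        rw [show (charDegree (χ : G → ℂ) : ℤ) - 1 + (-1 * (charDegree (χ : G → ℂ) : ℤ) - 1) = -2 by ring, dvd_neg] at h5
        have h6 : p ∣ 2 := by exact_mod_cast h5
        have := Nat.le_of_dvd (by norm_num) h6
        omega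
    · simp only [hsg]
      rw [if_neg h]
      rcases hσs χ hχ with h4 | h4
      · rw [h4, one_mul] at h3
        exact absurd h3 h
      · exact h4
  intro a b c hsub ha1 hb1 hc1' hab hac hbc
  set F := hX0.toFinset with hF
  set n : ℕ → ℕ := fun d => (F.filter fun χ : IrrCharacter G => charDegree (χ : G → ℂ) = d).card with hn
  have hmem : ∀ χ ∈ F, charDegree (χ : G → ℂ) ∈ ({1, a, b, c} : Finset ℕ) := by
    intro χ _
    have h3 := hsub (⟨χ, rfl⟩ : charDegree (χ : G → ℂ) ∈ charDegrees G)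
    simpa only [_root_.Finset.mem_insert, _root_.Finset.mem_singleton, _root_.Set.mem_insert_iff, _root_.Set.mem_singleton_iff] using h3
  have hn1 : n 1 = 1 := by
    simp only [hn]
    rw [Finset.card_eq_one]
    refine ⟨one, ?_⟩
    ext χ
    rw [Finset.mem_filter, Finset.mem_singleton]
    constructor
    · rintro ⟨-, h⟩
      exact eq_one_of_degree hG h
    · rintro rfl
      exact ⟨hX0.mem_toFinset.2 honeX, hone1⟩
  have hnot : (1 : ℕ) ∉ ({a, b, c} : Finset ℕ) ∧ a ∉ ({b, c} : Finset ℕ) ∧ b ∉ ({c} : Finset ℕ) := by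
    refine ⟨?_, ?_, ?_⟩
    · simp only [Finset.mem_insert, Finset.mem_singleton]; (clear * - ha1 hb1 hc1'; tauto)
    · simp only [Finset.mem_insert, Finset.mem_singleton]; (clear * - hab hac; tauto)
    · simp only [Finset.mem_singleton]; exact hbc
  have hcard : 1 + n a + n b + n c = e := by
    have h3 : F.card = e := by
      rw [hF, ← Set.ncard_eq_toFinset_card X hX0, ← Nat.card_coe_set_eq, hX]
    rw [← h3, Finset.card_eq_sum_card_fiberwise (f := fun χ : IrrCharacter G => charDegree (χ : G → ℂ))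
      (t := ({1, a, b, c} : Finset ℕ)) (fun χ hχ => Finset.mem_coe.2 (hmem χ (Finset.mem_coe.1 hχ))),
      Finset.sum_insert hnot.1, Finset.sum_insert hnot.2.1, Finset.sum_insert hnot.2.2, Finset.sum_singleton]
    have h4 : (F.filter fun χ : IrrCharacter G => charDegree (χ : G → ℂ) = 1).card = 1 := hn1
    simp only [hn]
    rw [h4]
    ring
  have hsumF : ∑ χ ∈ F, σ χ * (charDegree (χ : G → ℂ) : ℤ) = 1 + sg a * n a * a + sg b * n b * b + sg c * n c * c := by
    have h3 : ∀ d : ℕ, ∑ χ ∈ F.filter (fun χ : IrrCharacter G => charDegree (χ : G → ℂ) = d), σ χ * (charDegree (χ : G → ℂ) : ℤ) =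
        sg d * n d * d := by
      intro d
      rw [Finset.sum_congr rfl (g := fun _ => sg d * (d : ℤ)) (fun χ hχ => by
        rw [Finset.mem_filter] at hχ
        rw [hσsg χ (hX0.mem_toFinset.1 hχ.1), hχ.2]), Finset.sum_const, nsmul_eq_mul]
      simp only [hn]
      ring
    rw [← Finset.sum_fiberwise_of_maps_to (g := fun χ : IrrCharacter G => charDegree (χ : G → ℂ))
      (t := ({1, a, b, c} : Finset ℕ)) hmem, Finset.sum_insert hnot.1, Finset.sum_insert hnot.2.1,
      Finset.sum_insert hnot.2.2, Finset.sum_singleton, h3, h3, h3, h3, hn1]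
    have h4 : sg 1 = 1 := by simp [hsg]
    rw [h4]
    push_cast
    ring
  refine ⟨n a, n b, n c, sg a, sg b, sg c, s, charDegree (ψ : G → ℂ), hsgn a, hsgn b, hsgn c, hss, ?_, hcard, ?_, ?_, ?_,
    hexc, ?_⟩
  · have h3 := hsub (⟨ψ, rfl⟩ : charDegree (ψ : G → ℂ) ∈ charDegrees G)
    simpa using h3
  all_goals try
    intro h
    obtain ⟨χ, hχ⟩ := Finset.card_ne_zero.1 h
    rw [Finset.mem_filter] at hχ
    have h3 := hcongr χ (hX0.mem_toFinset.1 hχ.1)
    rwa [hσsg χ (hX0.mem_toFinset.1 hχ.1), hχ.2] at h3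
  rw [hsumF] at hsum
  linarith only [hsum]

end Cfsg.Agent.H604.FD.Degs
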